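import Mathlib.GroupTheory.QuotientGroup.Basic
import Mathlib.Order.WellFoundedSet
import Mathlib.Order.OrderIsoNat
import Mathlib.Data.Set.Finite.Powerset
import Mathlib.Data.Fintype.Powerset
import Mathlib.Order.RelClasses

/-!
# Roots inside a subgroup of finite index in its saturation
-/

set_option autoImplicit false

namespace K858.DivRoot

variable {G : Type*} [CommGroup G]

/-- If every element of `A` is an `n ^ m`-th power in `G` for every `m`, and the saturation of `A` is finite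
modulo `A`, then `A` is `n`-divisible. -/
theorem exists_root (A : Subgroup G) (s : Set G) (hs : s.Finite)
    (hsA : ∀ (t : G) (m : ℕ), 0 < m → t ^ m ∈ A → ∃ b ∈ s, b * t⁻¹ ∈ A) (n : ℕ) (hn : 0 < n) (c : G)
    (hc : c ∈ A) (hdiv : ∀ m : ℕ, ∃ d : G, d ^ (n ^ m) = c) : ∃ d ∈ A, d ^ n = c := by
  let S : Set (G ⧸ A) := QuotientGroup.mk '' s
  have hS : S.Finite := hs.image _
  have : Finite S := hS
  let K : ℕ → Set S := fun j => {x | x.1 ^ (n ^ j) = 1}
  have hK : Monotone K := by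
    refine monotone_nat_of_le_succ fun j x hx => ?_
    change x.1 ^ (n ^ (j + 1)) = 1
    rw [pow_succ, pow_mul]
    have : x.1 ^ (n ^ j) = 1 := hx
    rw [this, one_pow]
  have hfin : Finite (Set S) := inferInstance
  have hwf : WellFoundedGT (Set S) := Finite.to_wellFoundedGT
  obtain ⟨r, hr⟩ := WellFoundedGT.monotone_chain_condition (α := Set S) ⟨K, hK⟩
  obtain ⟨d, hd⟩ := hdiv (r + 1)
  have hmem : (QuotientGroup.mk d : G ⧸ A) ∈ S := by
    obtain ⟨b, hb, hbd⟩ := hsA d (n ^ (r + 1)) (Nat.pow_pos hn) (by rw [hd]; exact hc)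
    refine ⟨b, hb, ?_⟩
    rw [QuotientGroup.eq]
    have := inv_mem hbd
    rwa [mul_inv_rev, inv_inv, mul_comm] at this
  have h1 : (⟨QuotientGroup.mk d, hmem⟩ : S) ∈ K (r + 1) := by
    change (QuotientGroup.mk d : G ⧸ A) ^ (n ^ (r + 1)) = 1
    rw [← QuotientGroup.mk_pow, hd, QuotientGroup.eq_one_iff]
    exact hc
  have h2 : (⟨QuotientGroup.mk d, hmem⟩ : S) ∈ K r := by
    have := hr (r + 1) (Nat.le_succ r)
    change K r = K (r + 1) at this
    rwa [this]
  refine ⟨d ^ (n ^ r), ?_, ?_⟩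
  · have : (QuotientGroup.mk d : G ⧸ A) ^ (n ^ r) = 1 := h2
    rwa [← QuotientGroup.mk_pow, QuotientGroup.eq_one_iff] at this
  · rw [← pow_mul, ← pow_succ, hd]

end K858.DivRoot
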